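import Cfsg.Agent.LocalSymThree.Basic
import Cfsg.Agent.S2530
set_option autoImplicit false
set_option linter.style.haveILetI false

/-!
The case of the Petersen graph: the group is symmetric of degree five.
-/

namespace CfsgLib.LocalSymThree

open CfsgLib.ThreeTrans

variable {G : Type*} [Group G] {D : Set G}

/-- No two partners of a member have another common partner. -/
def NoSquare (D : Set G) : Prop :=
  ∀ d ∈ D, ∀ a ∈ P D d, ∀ b ∈ P D d, a ≠ b → ∀ h, h ∈ P D a → h ∈ P D b → h = d

theorem mate_eq (S : Setting D) {x y : G} (hx : x ∈ D) (hy : y ∈ D) (hxy : Commute x y) (z : G) :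
    x * y * z * (x * y)⁻¹ = y * (x * z * x) * y := by
  rw [mul_inv_rev, S.inv hx, S.inv hy, show x * y * z * (y * x) = (y * x) * z * (x * y) by rw [hxy.symm.eq]]
  simp only [mul_assoc]

/-- Every member is near every other. -/
theorem exists_common (S : Setting D) (hns : NoSquare D) {d e : G} (hd : d ∈ D) (he : e ∈ D)
    (hde : ¬ Commute d e) : ∃ a ∈ P D d, e ∈ P D a := by
  by_contra hno
  push Not at hno
  obtain ⟨a, ha, b, hb, hab⟩ := (exists_triple S hd).2
  have hcm : ∀ x ∈ P D d, ¬ Commute x e := fun x hx h => hno x hx ⟨he, fun e' => hde (e' ▸ hx.2.2), h⟩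
  have had : Commute a d := ha.2.2.symm
  have hbd : Commute b d := hb.2.2.symm
  have hPe : ∀ {x y : G}, x ∈ D → y ∈ D → Commute x y → ∀ {z : G}, z ∈ D → ¬ Commute z x → ¬ Commute z y →
      x ≠ y → x * y * z * (x * y)⁻¹ ∈ P D z := by
    intro x y hx hy hxy z hz hzx hzy hne
    refine ⟨S.closed _ z hz, fun h => ?_, commute_mate S hz hx hy hzx hzy hxy⟩
    apply conj_ne S hz hx hy hzx hzy hne
    have h2 := congrArg (fun t => x * t * x) h
    rw [mul_inv_rev, S.inv hx, S.inv hy] at h2
    simp only [mul_assoc, S.sq_assoc hx, S.sq hx, mul_one] at h2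
    simp only [mul_assoc]
    exact h2.symm
  have hea : ¬ Commute e a := fun h => hcm a ha h.symm
  have heb : ¬ Commute e b := fun h => hcm b hb h.symm
  have hed : ¬ Commute e d := fun h => hde h.symm
  have h1 := hPe ha.1 hd had he hea hed ha.2.1
  have h2 := hPe hb.1 hd hbd he heb hed hb.2.1
  set e1 := a * d * e * (a * d)⁻¹ with he1
  set e2 := b * d * e * (b * d)⁻¹ with he2
  have hne : e1 ≠ e2 := by
    intro h
    rw [he1, he2, mate_eq S ha.1 hd had, mate_eq S hb.1 hd hbd] at h
    exact conj_ne S he ha.1 hb.1 hea heb hab (mul_left_cancel (mul_right_cancel h))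
  -- the second image is again far from `a` and `d`
  have hd2 : ¬ Commute e2 d := by
    intro h
    have hfix : b * d * d * (b * d)⁻¹ = d := by
      rw [show b * d * d = d * (b * d) by rw [← mul_assoc, ← hbd.eq], mul_inv_cancel_right]
    rw [← hfix] at h
    exact hed (commute_conj_iff.1 h)
  have ha2 : ¬ Commute e2 a := by
    intro h
    have hmap : b * d * (b * a * b) * (b * d)⁻¹ = a := by
      rw [mate_eq S hb.1 hd hbd]
      simp only [mul_assoc, S.sq_assoc hb.1, S.sq hb.1, mul_one]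
      rw [had.eq, S.sq_assoc hd]
    rw [← hmap] at h
    have := commute_conj_iff.1 h
    exact hcm (b * a * b) (by
      have := P_conj_fix S (g := b) (x := d) (by rw [hbd.eq, mul_inv_cancel_right]) ha
      rwa [S.inv hb.1] at this) this.symm
  have h3 := hPe ha.1 hd had h2.1 ha2 hd2 ha.2.1
  have h4 : a * d * e2 * (a * d)⁻¹ ∈ P D e1 := (P_conj S (a * d) e e2).2 h2
  set y := a * d * e2 * (a * d)⁻¹ with hy
  have hye : y = e := hns e he e1 h1 e2 h2 hne y h4 h3
  apply hne
  have hsq : (a * d) * (a * d) = 1 := by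
    rw [mul_assoc, show d * (a * d) = a by rw [had.eq, S.sq_assoc hd], S.sq ha.1]
  have hinv : (a * d)⁻¹ = a * d := inv_eq_of_mul_eq_one_right hsq
  rw [he1, ← hye, hy, hinv, show a * d * (a * d * e2 * (a * d)) * (a * d) =
    (a * d * (a * d)) * e2 * (a * d * (a * d)) by simp only [mul_assoc], hsq, one_mul, mul_one]

theorem nonempty_perm_five (S : Setting D) (hns : NoSquare D) (hne : D.Nonempty) :
    Nonempty (↥(Subgroup.closure D) ≃* Equiv.Perm (Fin 5)) := by
  classical
  obtain ⟨d, hd⟩ := hne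
  obtain ⟨a, ha, c, hc, hac⟩ := (exists_triple S hd).2
  obtain ⟨t, ht, htd⟩ := exists_other S hc.1 (symm_mem hd hc)
  have n_dt : ¬ Commute d t := triangle_free S hc.1 (symm_mem hd hc) ht (Ne.symm htd)
  have n_ac : ¬ Commute a c := triangle_free S hd ha hc hac
  have n_ta : ¬ Commute t a := by
    intro h
    have hta : t ≠ a := fun e => n_ac (e ▸ ht.2.2.symm)
    exact htd (hns d hd a ha c hc hac t ⟨ht.1, hta, h.symm⟩ ht)
  let f : Fin 4 → G := ![d, t, a, c]
  have hf : (CoxeterMatrix.A 4).IsLiftable f := by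
    have c_da : Commute d a := ha.2.2
    have c_dc : Commute d c := hc.2.2
    have c_tc : Commute t c := ht.2.2.symm
    have q2 : ∀ {x y : G}, x ∈ D → y ∈ D → Commute x y → (x * y) ^ 2 = 1 := fun hx hy h =>
      (sq_eq_one_iff_commute (S.sq hx) (S.sq hy)).2 h
    have q3 : ∀ {x y : G}, x ∈ D → y ∈ D → ¬ Commute x y → (x * y) ^ 3 = 1 := fun hx hy h =>
      cube_of_not_commute S.set hx hy h
    intro i j
    fin_cases i <;> fin_cases j <;> simp [CoxeterMatrix.A, f, Matrix.cons_val_zero, Matrix.cons_val_one]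
    all_goals first
      | exact S.sq hd | exact S.sq ht.1 | exact S.sq ha.1 | exact S.sq hc.1
      | exact q2 hd ha.1 c_da | exact q2 ha.1 hd c_da.symm
      | exact q2 hd hc.1 c_dc | exact q2 hc.1 hd c_dc.symm
      | exact q2 ht.1 hc.1 c_tc | exact q2 hc.1 ht.1 c_tc.symm
      | exact q3 hd ht.1 n_dt | exact q3 ht.1 hd (fun h => n_dt h.symm)
      | exact q3 ht.1 ha.1 n_ta | exact q3 ha.1 ht.1 (fun h => n_ta h.symm)
      | exact q3 ha.1 hc.1 n_ac | exact q3 hc.1 ha.1 (fun h => n_ac h.symm)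
  obtain ⟨cs, hcs⟩ := Cfsg.Agent.S2530.result 4
  let φ : Equiv.Perm (Fin 5) →* G := cs.lift ⟨f, hf⟩
  have hφ : ∀ i : Fin 4, φ (Equiv.swap i.castSucc i.succ) = f i := fun i => by
    rw [← hcs]; exact cs.lift_apply_simple hf i
  have hfD : ∀ i, f i ∈ D := by intro i; fin_cases i <;> simp [f, hd, ht.1, ha.1, hc.1]
  have hle : φ.range ≤ Subgroup.closure D := by
    rw [MonoidHom.range_eq_map, ← cs.subgroup_closure_range_simple, MonoidHom.map_closure, Subgroup.closure_le]
    rintro _ ⟨_, ⟨i, rfl⟩, rfl⟩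
    rw [hcs, hφ]
    exact Subgroup.subset_closure (hfD i)
  -- the range contains everything
  have hg : ∀ i, f i ∈ φ.range := fun i => ⟨_, hφ i⟩
  have hdR : d ∈ φ.range := hg 0
  have htR : t ∈ φ.range := hg 1
  have haR : a ∈ φ.range := hg 2
  have hcR : c ∈ φ.range := hg 3
  have hPd : ∀ x ∈ P D d, x ∈ φ.range := by
    rw [triple_eq S hd ha hc hac]
    rintro x (rfl | rfl | rfl)
    · exact haR
    · exact hcR
    · exact mul_mem (mul_mem haR hcR) haR
  have hPc : ∀ x ∈ P D c, x ∈ φ.range := by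
    rw [triple_eq S hc.1 (symm_mem hd hc) ht (Ne.symm htd)]
    rintro x (rfl | rfl | rfl)
    · exact hdR
    · exact htR
    · exact mul_mem (mul_mem hdR htR) hdR
  have hmove : ∀ x ∈ P D d, ∃ g ∈ φ.range, g * c * g⁻¹ = x := by
    rw [triple_eq S hd ha hc hac]
    intro x hx
    rcases hx with e | e | e <;> rw [e]
    · refine ⟨c * a, mul_mem hcR haR, ?_⟩
      rw [mul_inv_rev, S.inv ha.1, S.inv hc.1, show c * a * c * (a * c) = (c * a * c) * a * c by
        simp only [mul_assoc], ← braid S.set ha.1 hc.1 n_ac]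
      simp only [mul_assoc, S.sq_assoc ha.1, S.sq hc.1, mul_one]
    · exact ⟨1, one_mem _, by simp⟩
    · exact ⟨a, haR, by rw [S.inv ha.1]⟩
  have hall : ∀ e ∈ D, e ∈ φ.range := by
    intro e he
    rcases eq_or_ne e d with rfl | hed
    · exact hdR
    by_cases hde : Commute d e
    · exact hPd e ⟨he, hed, hde⟩
    obtain ⟨x, hx, hex⟩ := exists_common S hns hd he hde
    obtain ⟨g, hgR, rfl⟩ := hmove x hx
    have h1 : g⁻¹ * e * g ∈ P D c := by
      rw [← P_conj S g]
      simpa [mul_assoc] using hex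
    have := mul_mem (mul_mem hgR (hPc _ h1)) (inv_mem hgR)
    simpa [mul_assoc] using this
  have hrange : φ.range = Subgroup.closure D := le_antisymm hle ((Subgroup.closure_le _).2 hall)
  -- injectivity
  have hinj : Function.Injective φ := by
    haveI := alternatingGroup.isSimpleGroup (α := Fin 5) (by simp)
    rw [← MonoidHom.ker_eq_bot_iff]
    rcases (inferInstance : ((φ.ker).subgroupOf (alternatingGroup (Fin 5))).Normal).eq_bot_or_eq_top with h | h
    · rw [Subgroup.eq_bot_iff_forall]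
      intro k hk
      have hcomm : ∀ i j : Fin 5, i ≠ j → Equiv.swap i j * k = k * Equiv.swap i j := by
        intro i j hij
        have h1 : k * Equiv.swap i j * k⁻¹ * (Equiv.swap i j)⁻¹ ∈ φ.ker := by
          rw [MonoidHom.mem_ker] at hk ⊢
          rw [map_mul, map_mul, map_mul, map_inv, map_inv, hk, inv_one, one_mul, mul_one, mul_inv_cancel]
        have h2 : k * Equiv.swap i j * k⁻¹ * (Equiv.swap i j)⁻¹ ∈ alternatingGroup (Fin 5) := by
          rw [Equiv.Perm.mem_alternatingGroup, map_mul, map_mul, map_mul, map_inv, map_inv,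
            mul_inv_cancel_comm, mul_inv_cancel]
        have h3 : (⟨_, h2⟩ : alternatingGroup (Fin 5)) ∈ φ.ker.subgroupOf (alternatingGroup (Fin 5)) :=
          Subgroup.mem_subgroupOf.2 h1
        rw [h, Subgroup.mem_bot] at h3
        have h4 := congrArg Subtype.val h3
        rw [Subgroup.coe_mk, Subgroup.coe_one, mul_inv_eq_one, mul_inv_eq_iff_eq_mul] at h4
        exact h4.symm
      refine Equiv.ext fun i => ?_
      by_contra hki
      obtain ⟨j, hji, hjk⟩ : ∃ j : Fin 5, j ≠ i ∧ j ≠ k i :=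
        (by decide : ∀ i x : Fin 5, ∃ j, j ≠ i ∧ j ≠ x) i (k i)
      have h5 := congrArg (fun p : Equiv.Perm (Fin 5) => p i) (hcomm i j hji.symm)
      simp only [Equiv.Perm.mul_apply, Equiv.swap_apply_left] at h5
      rw [Equiv.swap_apply_of_ne_of_ne (a := i) (fun e => hki (by simpa using e)) hjk.symm] at h5
      exact hji (k.injective h5).symm
    · exfalso
      rw [Subgroup.subgroupOf_eq_top] at h
      have h2 : Equiv.swap (0 : Fin 5) 1 * Equiv.swap 1 2 ∈ φ.ker :=
        h (Equiv.Perm.mul_mem_alternatingGroup_of_isSwap ⟨0, 1, by decide, rfl⟩ ⟨1, 2, by decide, rfl⟩)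
      rw [MonoidHom.mem_ker, map_mul] at h2
      have e0 : φ (Equiv.swap (0 : Fin 5) 1) = d := hφ 0
      have e1 : φ (Equiv.swap (1 : Fin 5) 2) = t := hφ 1
      rw [e0, e1] at h2
      have : d = t := by
        rw [← inv_eq_of_mul_eq_one_right h2, S.inv hd]
      exact n_dt (this ▸ Commute.refl d)
  exact ⟨((MonoidHom.ofInjective hinj).trans (MulEquiv.subgroupCongr hrange)).symm⟩

end CfsgLib.LocalSymThree
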